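import Cfsg.Agent.Lib.Recog.Held.EnumCore
import Cfsg.Agent.Lib.Recog.SporBound.HeldL5.Table

set_option autoImplicit false
set_option maxRecDepth 20000
set_option Elab.async false

/-! Checks of the tables (owner: helper11). -/

namespace CfsgLib.Recog.SporBound.HeldL5

open CfsgLib.Recog.SporBound CfsgLib.Recog.Held.Enum

theorem table_ok : tableOK cert = true := by decide +kernel

theorem invol_ok : involOK cert = true := by decide +kernel

theorem span_ok : spanOK cert spanTree = true := by decide +kernel

theorem stab_ok : stabOK cert stabTree [0,1,2,3] (merges.map Prod.fst) = true := by decide +kernel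

theorem merge_ok : (List.zip merges roots).all (fun p => mergeOK cert 31 p.1 p.2) = true := by decide +kernel

theorem merge_len : merges.length ≤ roots.length := by decide +kernel

end CfsgLib.Recog.SporBound.HeldL5
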