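import Cfsg.Agent.Lib.Recog.SporBound.Sound
import Cfsg.Agent.Lib.Recog.SporBound.HeldL5.Tree0

set_option autoImplicit false
set_option maxRecDepth 20000

/-! Generated closure certificate: Held type, L5 pattern over C (owner: lead). -/

namespace CfsgLib.Recog.SporBound.HeldL5
open CfsgLib.Recog.SporBound

noncomputable def factTree : Q (ℕ) := ft11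
noncomputable def nodeTree : Q (ℕ) := (.node ct0 ct1 ct2 ct3)
noncomputable def stepTree : Q (List ℕ) := st13
noncomputable def finalTree : Q (List ℕ) := (.node et10 et20 et30 et40)

/-- The certificate. -/
noncomputable def cert : Cert where
  n := 465
  nd := 498
  nf := 1303
  kl := [0, 1, 2, 3, 4]
  facts := factTree
  cn := nodeTree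
  steps := stepTree
  finals := finalTree
  rels := [[0, 0], [1, 1], [2, 2], [3, 3], [4, 4], [0, 1, 0, 1, 0, 1, 0, 1, 0, 1, 0, 1, 0, 1, 0, 1], [0, 2, 0, 2, 0, 2, 0, 2], [0, 3, 0, 3, 0, 3, 0, 3, 0, 3, 0, 3], [0, 4, 0, 4, 0, 4, 0, 4, 0, 4, 0, 4], [1, 2, 1, 2, 1, 2, 1, 2, 1, 2, 1, 2], [1, 3, 1, 3, 1, 3, 1, 3, 1, 3, 1, 3, 1, 3, 1, 3], [1, 4, 1, 4, 1, 4, 1, 4, 1, 4, 1, 4], [2, 3, 2, 3, 2, 3, 2, 3, 2, 3, 2, 3, 2, 3, 2, 3, 2, 3, 2, 3, 2, 3, 2, 3], [2, 4, 2, 4, 2, 4, 2, 4, 2, 4, 2, 4, 2, 4, 2, 4, 2, 4, 2, 4, 2, 4, 2, 4], [3, 4, 3, 4, 3, 4, 3, 4, 3, 4, 3, 4, 3, 4, 3, 4, 3, 4, 3, 4, 3, 4, 3, 4], [0, 2, 0, 2, 0, 2, 0, 2], [0, 1, 2, 0, 1, 2, 0, 1, 2], [0, 1, 3, 2, 3, 1, 2,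 3, 0, 2, 3], [0, 1, 0, 1, 0, 1, 0, 2, 1, 2, 1, 2], [0, 1, 0, 1, 0, 1, 3, 0, 3, 0, 3, 1], [0, 1, 0, 2, 0, 1, 0, 2, 0, 1, 0, 2], [0, 1, 0, 3, 1, 3, 0, 1, 0, 3, 1, 3], [0, 1, 2, 0, 2, 1, 0, 1, 2, 0, 2, 1], [0, 1, 2, 1, 2, 1, 2, 3, 0, 3, 0, 3], [0, 1, 3, 1, 0, 1, 3, 1, 0, 1, 3, 1], [0, 1, 3, 1, 3, 1, 3, 1, 0, 3, 0, 3], [0, 2, 1, 2, 1, 2, 1, 3, 0, 3, 0, 3], [1, 2, 1, 2, 3, 1, 3, 1, 3, 1, 3, 2], [0, 2, 3, 2, 0, 2, 3, 2, 0, 2, 3, 2], [0, 2, 3, 2, 0, 3, 0, 2, 3, 2, 0, 3], [0, 2, 3, 0, 2, 3, 0, 2, 3, 0, 2, 3], [0, 3, 0, 3, 0, 3, 0, 3, 0, 3, 0, 3], [0, 3, 2, 3, 2, 3, 0, 3, 2, 3, 2, 3], [0, 1, 0, 1, 0, 2, 0, 1, 2, 0, 2, 1, 2], [0, 1, 2, 0, 2, 1, 2, 1, 0, 2, 1, 2, 1], [0, 1,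 2, 1, 3, 1, 0, 2, 3, 1, 2, 3, 1], [0, 1, 0, 2, 0, 2, 0, 2, 1, 2, 0, 1, 2], [0, 1, 0, 1, 0, 1, 0, 1, 2, 1, 2, 1, 2, 1], [0, 1, 0, 1, 0, 1, 0, 1, 0, 3, 0, 3, 0, 3], [0, 1, 0, 1, 0, 1, 0, 3, 1, 3, 1, 3, 1, 3], [0, 1, 0, 1, 3, 1, 3, 0, 1, 0, 1, 3, 1, 3], [0, 1, 0, 1, 2, 1, 3, 1, 0, 3, 1, 0, 3, 2], [0, 1, 3, 2, 1, 3, 1, 2, 3, 1, 0, 2, 3, 2], [0, 1, 0, 1, 2, 0, 2, 1, 0, 1, 0, 2, 0, 2], [0, 1, 2, 1, 2, 1, 2, 0, 1, 2, 1, 2, 1, 2], [0, 1, 2, 1, 2, 1, 2, 0, 2, 1, 2, 1, 2, 1], [0, 2, 0, 2, 3, 1, 3, 0, 2, 0, 2, 3, 1, 3], [0, 2, 0, 2, 3, 1, 3, 2, 0, 2, 0, 3, 1, 3], [0, 2, 0, 2, 0, 3, 2, 0, 2, 3, 2, 0, 2, 3], [1, 2, 1, 2, 1, 2, 3, 2, 1, 2, 1, 2, 1, 3], [1, 2, 1, 2, 1, 2, 1, 3,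 1, 3, 1, 3, 1, 3], [1, 2, 1, 2, 1, 2, 3, 1, 2, 1, 2, 1, 2, 3], [0, 2, 3, 2, 0, 3, 2, 3, 2, 0, 2, 3, 2, 3], [0, 1, 0, 3, 0, 3, 0, 3, 1, 3, 0, 3, 0, 3], [0, 1, 3, 0, 3, 0, 3, 0, 1, 3, 0, 3, 0, 3], [0, 2, 0, 2, 0, 2, 0, 2], [0, 1, 2, 0, 1, 2, 0, 1, 2], [0, 1, 0, 1, 0, 1, 0, 2, 1, 2, 1, 2], [0, 1, 0, 2, 0, 1, 0, 2, 0, 1, 0, 2], [0, 1, 2, 0, 2, 1, 0, 1, 2, 0, 2, 1], [1, 2, 1, 2, 1, 2, 1, 2, 1, 2, 1, 2], [1, 2, 4, 1, 2, 4, 2, 4, 2, 1, 4, 2], [0, 4, 0, 4, 0, 4, 0, 4, 0, 4, 0, 4], [1, 4, 1, 4, 1, 4, 1, 4, 1, 4, 1, 4], [0, 1, 0, 1, 0, 2, 0, 1, 2, 0, 2, 1, 2], [0, 1, 0, 2, 4, 1, 4, 0, 1, 2, 4, 1, 4], [0, 1, 2, 0, 2, 1, 2, 1, 0, 2, 1, 2, 1], [0, 1, 0, 2, 0, 2, 0, 2, 1, 2,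 0, 1, 2], [0, 1, 0, 1, 0, 1, 0, 1, 2, 1, 2, 1, 2, 1], [0, 1, 0, 1, 0, 4, 1, 4, 2, 0, 2, 4, 1, 4], [0, 1, 0, 2, 1, 4, 0, 2, 4, 2, 0, 4, 1, 2], [0, 1, 2, 1, 2, 1, 2, 0, 2, 1, 2, 1, 2, 1], [0, 1, 0, 1, 2, 0, 2, 1, 0, 1, 0, 2, 0, 2], [0, 1, 2, 1, 2, 1, 2, 0, 1, 2, 1, 2, 1, 2], [0, 2, 0, 4, 2, 1, 4, 1, 2, 1, 4, 1, 2, 4], [0, 1, 0, 1, 2, 0, 2, 0, 1, 2, 1, 0, 1, 2, 1], [0, 1, 0, 1, 2, 0, 4, 0, 1, 2, 4, 2, 4, 0, 4], [0, 1, 0, 1, 0, 1, 2, 1, 0, 1, 2, 1, 2, 0, 2], [0, 1, 2, 0, 4, 0, 2, 4, 2, 0, 4, 1, 2, 0, 2], [0, 1, 2, 1, 4, 0, 4, 1, 2, 4, 2, 0, 1, 4, 2], [0, 1, 2, 4, 0, 4, 2, 1, 2, 1, 4, 2, 0, 1, 4], [0, 1, 2, 4, 1, 0, 2, 0, 4, 1, 2, 0, 4, 0, 4], [0, 1, 2, 4, 1, 2, 1, 2,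 4, 2, 0, 4, 0, 4, 2], [0, 1, 4, 0, 2, 4, 2, 0, 4, 0, 2, 1, 2, 0, 2], [0, 1, 0, 1, 2, 1, 2, 0, 1, 2, 1, 0, 2, 0, 2], [0, 1, 0, 1, 2, 0, 2, 0, 2, 1, 2, 0, 2, 1, 2], [0, 1, 0, 1, 2, 1, 4, 0, 2, 4, 2, 0, 4, 2, 1, 2], [0, 1, 0, 1, 2, 4, 1, 2, 1, 4, 2, 1, 0, 1, 0, 4], [0, 1, 0, 1, 4, 0, 1, 2, 4, 0, 2, 0, 4, 0, 4, 2], [0, 1, 0, 1, 4, 0, 2, 4, 2, 0, 4, 1, 0, 1, 0, 2], [0, 1, 0, 1, 4, 0, 4, 1, 2, 1, 4, 1, 2, 0, 4, 2], [0, 1, 0, 1, 2, 1, 0, 2, 0, 1, 0, 1, 2, 1, 0, 2], [0, 1, 0, 1, 0, 2, 0, 1, 2, 1, 2, 0, 1, 2, 0, 2], [0, 1, 0, 2, 4, 0, 2, 4, 1, 2, 1, 2, 4, 0, 1, 4], [0, 1, 0, 2, 4, 1, 0, 2, 1, 4, 1, 2, 0, 1, 4, 2], [0, 1, 0, 1, 0, 1, 3, 0, 3, 0, 3, 1], [0, 1, 0, 3, 1, 3,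 0, 1, 0, 3, 1, 3], [0, 1, 3, 0, 4, 0, 3, 1, 0, 4, 3, 4], [0, 1, 3, 1, 0, 1, 3, 1, 0, 1, 3, 1], [0, 1, 3, 1, 3, 1, 3, 1, 0, 3, 0, 3], [0, 1, 4, 0, 4, 3, 0, 1, 4, 0, 4, 3], [0, 1, 4, 1, 3, 4, 3, 1, 4, 1, 0, 3], [0, 3, 0, 3, 0, 3, 0, 3, 0, 3, 0, 3], [1, 3, 1, 4, 1, 3, 1, 4, 1, 3, 1, 4], [0, 4, 3, 1, 3, 4, 0, 4, 3, 1, 3, 4], [0, 4, 0, 4, 0, 4, 0, 4, 0, 4, 0, 4], [1, 4, 1, 4, 1, 4, 1, 4, 1, 4, 1, 4], [0, 1, 3, 4, 1, 3, 0, 1, 3, 4, 3, 4, 3], [0, 1, 0, 1, 0, 1, 0, 1, 0, 3, 0, 3, 0, 3], [0, 1, 0, 1, 0, 1, 0, 3, 1, 3, 1, 3, 1, 3], [0, 1, 0, 1, 3, 1, 3, 0, 1, 0, 1, 3, 1, 3], [0, 1, 4, 3, 1, 4, 0, 4, 0, 3, 1, 4, 1, 4], [0, 1, 0, 3, 0, 3, 0, 3, 1, 3, 0, 3, 0, 3], [0, 1, 3,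 0, 3, 0, 3, 0, 1, 3, 0, 3, 0, 3], [0, 3, 0, 3, 0, 3, 1, 3, 1, 3, 1, 3, 1, 3], [0, 1, 0, 3, 0, 4, 0, 3, 4, 1, 4, 0, 3, 1, 4], [0, 1, 0, 3, 1, 3, 4, 0, 4, 0, 1, 0, 4, 0, 4], [0, 1, 0, 3, 4, 0, 1, 0, 3, 4, 0, 1, 0, 3, 4], [0, 1, 3, 0, 1, 4, 0, 1, 3, 1, 4, 3, 4, 1, 4], [0, 1, 4, 0, 3, 0, 1, 4, 0, 3, 0, 1, 4, 0, 3], [0, 1, 4, 1, 4, 0, 4, 1, 4, 1, 4, 3, 1, 3, 4], [0, 4, 1, 3, 4, 0, 4, 1, 3, 4, 0, 4, 1, 3, 4], [1, 3, 4, 3, 4, 1, 3, 4, 3, 4, 1, 3, 4, 3, 4], [0, 1, 0, 1, 0, 3, 0, 1, 0, 1, 0, 3, 1, 0, 1, 3], [0, 1, 0, 1, 0, 3, 1, 0, 3, 1, 3, 1, 3, 0, 1, 3], [0, 1, 0, 1, 0, 4, 1, 3, 4, 1, 4, 1, 4, 3, 1, 4], [0, 1, 0, 1, 3, 0, 1, 3, 1, 0, 1, 0, 3, 0, 1, 3], [0, 1, 0, 1, 3,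 1, 0, 3, 0, 3, 1, 0, 3, 1, 3, 1], [0, 1, 0, 1, 3, 1, 3, 1, 0, 1, 0, 1, 3, 1, 3, 1], [0, 1, 0, 1, 3, 4, 1, 4, 1, 3, 0, 3, 4, 3, 0, 4], [0, 1, 0, 1, 3, 4, 3, 0, 3, 4, 3, 1, 0, 1, 0, 4], [0, 1, 0, 1, 3, 4, 3, 1, 0, 1, 0, 3, 1, 4, 1, 3], [0, 1, 0, 1, 3, 0, 3, 4, 0, 3, 1, 0, 4, 3, 4, 1], [0, 1, 0, 3, 0, 1, 0, 3, 0, 1, 0, 3, 0, 1, 0, 3], [0, 1, 0, 3, 0, 1, 3, 0, 3, 1, 3, 0, 3, 1, 0, 3]]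
  subs := [[0], [1], [2], [3]]

/-- Chains of the traced words. -/
noncomputable def closers : List ℕ := []

end CfsgLib.Recog.SporBound.HeldL5
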